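/-
Data for the centraliser of an octad involution in Co1 (bit indices: `23` is the extra point).
-/
import Cfsg.Agent.EqLemmas

set_option autoImplicit false

namespace Cfsg.Agent.Co1Centralizer

/-- A hyperbolic basis of the octad lattice modulo two, consisting of singular vectors. -/
def basisData : List (List ℤ) := [[0, 0, 0, 0, 0, 0, 0, 0, 0, 0, 0, 0, 0, 0, 0, 0, 0, 0, 0, 0, 0, 0, 0, -8],
  [0, 0, -4, 0, 0, 0, 0, 0, 0, 0, 0, 0, 0, 0, 4, 0, 0, -4, 0, 0, 0, 0, 0, 4],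
  [0, 4, 0, 0, 0, -4, 0, 0, 0, 0, 0, 0, 0, 0, -4, 0, 0, -4, 0, 0, 0, 0, 0, 0],
  [-4, 0, -4, 0, 0, 4, 0, 0, 0, 0, 0, 0, 0, 0, 0, 0, 0, 4, 0, 0, 0, 0, 0, 0],
  [-2, 2, -6, -2, 0, 2, 0, 0, 0, 0, 0, 0, 0, 0, 2, 0, 0, -2, 0, 0, 0, 0, 0, -2],
  [0, 4, 4, -4, 0, 4, 0, 0, 0, 0, 0, 0, 0, 0, 0, 0, 0, 0, 0, 0, 0, 0, 0, 0],
  [0, 0, 0, -4, 0, 4, 0, 0, 0, 0, 0, 0, 0, 0, -4, 0, 0, 4, 0, 0, 0, 0, 0, 0],
  [0, 4, 0, -4, 0, 0, 0, 0, 0, 0, 0, 0, 0, 0, 0, 0, 0, 4, 0, 0, 0, 0, 0, 4]]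

/-- The halved remainders of the generators of the octad lattice. -/
def witData : List (List ℤ) := [[4, -4, 0, 4, 0, -4, 0, 0, 0, 0, 0, 0, 0, 0, 0, 0, 0, -4, 0, 0, 0, 0, 0, -4],
  [0, 0, 0, 4, 0, -4, 0, 0, 0, 0, 0, 0, 0, 0, 0, 0, 0, 0, 0, 0, 0, 0, 0, 0],
  [2, -2, 6, 2, 0, -2, 0, 0, 0, 0, 0, 0, 0, 0, -2, 0, 0, -2, 0, 0, 0, 0, 0, -2],
  [0, -4, 0, 4, 0, 0, 0, 0, 0, 0, 0, 0, 0, 0, 0, 0, 0, 4, 0, 0, 0, 0, 0, -4],
  [2, -6, 2, 6, 0, -2, 0, 0, 0, 0, 0, 0, 0, 0, 2, 0, 0, -2, 0, 0, 0, 0, 0, -2],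
  [2, -2, 2, 2, 0, -2, 0, 0, 0, 0, 0, 0, 0, 0, 6, 0, 0, -2, 0, 0, 0, 0, 0, 2],
  [0, -4, 0, 4, 0, 0, 0, 0, 0, 0, 0, 0, 0, 0, 4, 0, 0, 0, 0, 0, 0, 0, 0, -4],
  [0, 0, 0, 0, 0, 0, 0, 0, 0, 0, 0, 0, 0, 0, 0, 0, 0, 0, 0, 0, 0, 0, 0, 8],
  [4, 0, 8, 4, 0, -4, 0, 0, 0, 0, 0, 0, 0, 0, 0, 0, 0, 0, 0, 0, 0, 0, 0, 4]]

/-- The sign mask of a monomial element moving the fixed vector of the Co2 centraliser. -/
def signMask : ℕ := 0x13e005

/-- The images of the basis (as eight bit numbers) under the five elements. -/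
def matData : List (List ℕ) := [[11, 170, 56, 165, 95, 230, 10, 225],
  [1, 3, 4, 8, 63, 33, 65, 129],
  [1, 2, 5, 8, 85, 32, 65, 128],
  [1, 67, 236, 73, 185, 32, 64, 193],
  [1, 3, 4, 9, 186, 33, 64, 129]]

/-- The class of the fixed vector. -/
def seed : ℕ := 169

/-- Each non-singular class with a predecessor and the element moving it there. -/
def orbitData : List (ℕ × ℕ × ℕ) := [(168, 169, 4), (162, 168, 0), (173, 162, 0), (163, 162, 1), (145, 173, 0), (172, 173, 2), (69, 173, 3),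
  (166, 163, 0), (181, 145, 0), (191, 145, 1), (212, 145, 2), (121, 145, 3), (58, 145, 4), (154, 172, 0),
  (68, 172, 3), (57, 69, 0), (149, 166, 0), (167, 166, 1), (78, 166, 3), (107, 181, 0), (241, 181, 2),
  (31, 181, 4), (100, 191, 0), (251, 191, 2), (21, 191, 4), (140, 212, 0), (127, 212, 4), (29, 121, 0),
  (86, 121, 1), (61, 121, 2), (211, 121, 4), (182, 58, 0), (147, 58, 3), (177, 154, 0), (223, 154, 2),
  (114, 154, 3), (49, 154, 4), (50, 68, 0), (23, 57, 0), (124, 57, 2), (209, 57, 3), (141, 149, 0),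
  (187, 149, 1), (62, 149, 4), (158, 167, 0), (79, 167, 3), (232, 107, 0), (106, 107, 1), (89, 241, 0),
  (25, 241, 3), (91, 241, 4), (99, 31, 0), (94, 31, 3), (101, 100, 4), (19, 251, 3), (81, 251, 4),
  (108, 21, 0), (84, 21, 3), (143, 127, 0), (201, 29, 0), (199, 86, 0), (253, 86, 4), (47, 61, 0),
  (151, 61, 4), (122, 211, 3), (202, 182, 0), (152, 182, 1), (242, 182, 2), (247, 182, 3), (188, 147, 1),
  (214, 147, 2), (83, 177, 0), (244, 177, 2), (27, 177, 4), (136, 223, 0), (116, 223, 4), (92, 114, 1),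
  (54, 114, 2), (216, 114, 4), (178, 49, 0), (119, 50, 2), (218, 50, 3), (198, 23, 0), (46, 124, 0),
  (254, 209, 1), (17, 187, 4), (142, 62, 0), (137, 158, 0), (53, 158, 4), (233, 232, 1), (227, 106, 0),
  (77, 99, 0), (98, 99, 1), (34, 99, 3), (113, 94, 1), (184, 19, 4), (248, 81, 3), (197, 108, 3),
  (109, 84, 0), (221, 143, 0), (38, 143, 3), (200, 201, 2), (196, 253, 0), (39, 151, 0), (228, 202, 0),
  (203, 202, 1), (139, 202, 3), (43, 54, 0), (156, 54, 4), (42, 119, 0), (138, 53, 0), (226, 227, 2),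
  (76, 77, 1), (70, 98, 0), (35, 98, 3), (229, 228, 1), (239, 203, 0), (238, 138, 0), (71, 70, 4)]

/-- A class orthogonal to the seed whose reflection times that of the seed is the fourth element. -/
def centre : ℕ := 232

/-- The classes orthogonal to the seed, reached from `centre`. -/
def perpData : List (ℕ × ℕ × ℕ) := [(168, 232, 0), (233, 232, 1), (162, 168, 0), (163, 233, 0), (173, 162, 0), (166, 163, 0), (145, 173, 0),
  (172, 173, 2), (69, 173, 3), (149, 166, 0), (167, 166, 1), (78, 166, 3), (181, 145, 0), (191, 145, 1),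
  (212, 145, 2), (121, 145, 3), (154, 172, 0), (68, 172, 3), (57, 69, 0), (141, 149, 0), (187, 149, 1),
  (209, 149, 2), (158, 167, 0), (79, 167, 3), (61, 78, 0), (107, 181, 0), (241, 181, 2), (100, 191, 0),
  (251, 191, 2), (140, 212, 0), (29, 121, 0), (86, 121, 1), (177, 154, 0), (223, 154, 2), (114, 154, 3),
  (50, 68, 0), (23, 57, 0), (124, 57, 2), (119, 141, 0), (101, 141, 3), (92, 187, 0), (254, 187, 2),
  (83, 187, 3), (137, 158, 0), (218, 158, 2), (54, 79, 0), (47, 61, 0), (19, 61, 1), (106, 107, 1),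
  (89, 241, 0), (25, 241, 3), (201, 29, 0), (199, 86, 0), (244, 177, 2), (136, 223, 0), (198, 23, 0),
  (46, 124, 0), (42, 119, 0), (200, 92, 0), (43, 54, 0), (227, 106, 0), (226, 43, 0)]

end Cfsg.Agent.Co1Centralizer
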