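/-
Eight coordinates modulo two on the octad sublattice, with the quadratic form `dot / 32`.

* `cz`, `czHom`, `exists_decomp`, `exists_two_of_cz_eq_zero`
* `qv_eq` : `qv x = quadFormPlus 4 (cz x)`;  `pair_eq`
-/
import Cfsg.Agent.Lib.Co2Centralizer.Coord
import Cfsg.Agent.Lib.Co1Centralizer.Data

set_option autoImplicit false
open Cfsg
open Cfsg.Agent.Leech
open Cfsg.Agent.Co2Centralizer (ofList octSub oct genVec isOct mem_of_isOct octSub_induction genVec_mem dvd_dot pair pair_add pair_comm pair_zero)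

namespace Cfsg.Agent.Co1Centralizer

/-- The coordinate space. -/
abbrev W : Type := Fin 4 ⊕ Fin 4 → ZMod 2

/-- The index of a coordinate. -/
def idx8 : Fin 4 ⊕ Fin 4 → ℕ
  | Sum.inl i => i.val
  | Sum.inr i => 4 + i.val

/-- Bit vectors as coordinate vectors. -/
def toV (n : ℕ) : W := fun k => if n.testBit (idx8 k) then 1 else 0

/-- The hyperbolic basis. -/
def bv (k : Fin 4 ⊕ Fin 4) : GolayPt → ℤ := ofList (basisData.getD (idx8 k) [])

theorem bv_mem (k : Fin 4 ⊕ Fin 4) : bv k ∈ octSub :=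
  mem_of_isOct ((by decide +kernel : ∀ k, isOct (bv k) = true) k)

/-- The basis in the octad lattice. -/
def bOct (j : Fin 4 ⊕ Fin 4) : octSub := ⟨bv j, bv_mem j⟩

/-- Swap the two halves. -/
def dual : Fin 4 ⊕ Fin 4 → Fin 4 ⊕ Fin 4
  | Sum.inl i => Sum.inr i
  | Sum.inr i => Sum.inl i

/-- The eight coordinates modulo two. -/
def cz (x : GolayPt → ℤ) : W := fun k => pair x (bv (dual k))

theorem cz_add {x y : GolayPt → ℤ} (hx : x ∈ octSub) : cz (x + y) = cz x + cz y :=
  funext fun _ => pair_add hx (bv_mem _)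

/-- `cz` as a homomorphism. -/
def czHom : ↥octSub →+ W :=
  AddMonoidHom.mk' (fun x => cz x.1) fun x y => cz_add (y := y.1) x.2

theorem czHom_apply (x : octSub) : czHom x = cz x.1 := rfl

theorem cz_bv : ∀ j k, cz (bv j) k = if k = j then 1 else 0 := by decide +kernel

theorem gen_wit : ∀ k : Fin 9, (∀ i : GolayPt, genVec k i =
    (∑ j, ((cz (genVec k) j).val : ℤ) * bv j i) + 2 * ofList (witData.getD k.val []) i) ∧
    isOct (ofList (witData.getD k.val [])) = true := by decide +kernel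

theorem exists_decomp (x : octSub) : ∃ (n : Fin 4 ⊕ Fin 4 → ℤ) (y : octSub),
    x = (∑ j, n j • bOct j) + (2 : ℤ) • y := by
  obtain ⟨x, hx⟩ := x
  have key : ∃ (n : Fin 4 ⊕ Fin 4 → ℤ), ∃ y ∈ octSub, x = (∑ j, n j • bv j) + (2 : ℤ) • y := by
    refine octSub_induction (P := fun x =>
      ∃ (n : Fin 4 ⊕ Fin 4 → ℤ), ∃ y ∈ octSub, x = (∑ j, n j • bv j) + (2 : ℤ) • y) (fun k => ?_)
      ⟨0, 0, octSub.zero_mem, by simp⟩ ?_ ?_ hx
    · exact ⟨_, _, mem_of_isOct (gen_wit k).2, funext fun i => by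
        simp only [Pi.add_apply, Finset.sum_apply, Pi.smul_apply, smul_eq_mul]; exact (gen_wit k).1 i⟩
    · rintro _ _ - - ⟨n, y, hy, rfl⟩ ⟨m, z, hz, rfl⟩
      refine ⟨n + m, y + z, add_mem hy hz, ?_⟩
      simp only [Pi.add_apply, add_smul, Finset.sum_add_distrib, smul_add]
      abel
    · rintro _ - ⟨n, y, hy, rfl⟩
      refine ⟨-n, -y, neg_mem hy, ?_⟩
      simp only [Pi.neg_apply, neg_smul, Finset.sum_neg_distrib, smul_neg]
      abel
  obtain ⟨n, y, hy, e⟩ := key
  exact ⟨n, ⟨y, hy⟩, Subtype.ext (by simpa [bOct] using e)⟩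

theorem czHom_decomp (n : Fin 4 ⊕ Fin 4 → ℤ) (y : octSub) :
    czHom ((∑ j, n j • bOct j) + (2 : ℤ) • y) = fun j => (n j : ZMod 2) := by
  rw [map_add, map_sum]
  funext k
  simp only [map_zsmul, Pi.add_apply, Finset.sum_apply, Pi.smul_apply, zsmul_eq_mul, Pi.mul_apply,
    Pi.intCast_apply]
  rw [show ((2 : ℤ) : ZMod 2) = 0 from rfl, zero_mul, add_zero, Finset.sum_eq_single k]
  · rw [show czHom (bOct k) k = 1 from (cz_bv k k).trans (if_pos rfl), mul_one]
  · intro j _ hj
    rw [show czHom (bOct j) k = 0 from (cz_bv j k).trans (if_neg (Ne.symm hj)), mul_zero]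
  · simp

theorem exists_two_of_cz_eq_zero {x : octSub} (h : czHom x = 0) : ∃ y : octSub, x = (2 : ℤ) • y := by
  obtain ⟨n, y, rfl⟩ := exists_decomp x
  rw [czHom_decomp] at h
  have hn : ∀ j, (2 : ℤ) ∣ n j := fun j =>
    (ZMod.intCast_zmod_eq_zero_iff_dvd _ 2).1 (congrFun h j)
  choose q hq using hn
  refine ⟨(∑ j, q j • bOct j) + y, ?_⟩
  simp only [hq, smul_add, Finset.smul_sum, smul_smul]

theorem cz_surj (v : W) : ∃ x : octSub, czHom x = v := by
  refine ⟨(∑ j, ((v j).val : ℤ) • bOct j) + (2 : ℤ) • 0, ?_⟩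
  rw [czHom_decomp]
  funext j
  simp

/-- The bilinear form on coordinates. -/
def bil (a b : W) : ZMod 2 :=
  ∑ i : Fin 4, (a (Sum.inl i) * b (Sum.inr i) + a (Sum.inr i) * b (Sum.inl i))

theorem bil_comm (a b : W) : bil a b = bil b a :=
  Finset.sum_congr rfl fun i _ => by ring

theorem bil_add (a a' b : W) : bil (a + a') b = bil a b + bil a' b := by
  simp only [bil, ← Finset.sum_add_distrib, Pi.add_apply]
  exact Finset.sum_congr rfl fun i _ => by ring

theorem bil_zero (b : W) : bil 0 b = 0 := by simp [bil]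

theorem qf_add (a b : W) :
    quadFormPlus 4 (ZMod 2) (a + b) =
      quadFormPlus 4 (ZMod 2) a + quadFormPlus 4 (ZMod 2) b + bil a b := by
  simp only [quadFormPlus, bil, ← Finset.sum_add_distrib, Pi.add_apply]
  exact Finset.sum_congr rfl fun i _ => by ring

theorem pair_gen : ∀ k l : Fin 9, pair (genVec k) (genVec l) = bil (cz (genVec k)) (cz (genVec l)) := by
  decide +kernel

theorem cz_neg {x : GolayPt → ℤ} (hx : x ∈ octSub) : cz (-x) = -cz x :=
  map_neg czHom ⟨x, hx⟩

theorem cz_zero : cz 0 = 0 := map_zero czHom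

/-- The pairing in coordinates. -/
theorem pair_eq {x y : GolayPt → ℤ} (hx : x ∈ octSub) (hy : y ∈ octSub) :
    pair x y = bil (cz x) (cz y) := by
  have neg_eq : ∀ c : ZMod 2, -c = c := by decide
  have hnegW : ∀ a : W, -a = a := fun a => funext fun i => neg_eq _
  have hpn : ∀ {x z : GolayPt → ℤ}, x ∈ octSub → z ∈ octSub → pair (-x) z = pair x z := by
    intro x z hx hz
    have h := pair_add (neg_mem hx) hz (y := x)
    rw [neg_add_cancel, pair_zero, eq_comm, add_eq_zero_iff_eq_neg, neg_eq] at h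
    exact h
  have h1 : ∀ k, ∀ z ∈ octSub, pair z (genVec k) = bil (cz z) (cz (genVec k)) := by
    intro k z hz
    refine octSub_induction (P := fun z => pair z (genVec k) = bil (cz z) (cz (genVec k)))
      (fun l => pair_gen l k) ?_ (fun a b ha hb iha ihb => ?_) (fun a ha iha => ?_) hz
    · rw [pair_zero, cz_zero, bil_zero]
    · rw [pair_add ha (genVec_mem k), cz_add ha, bil_add, iha, ihb]
    · rw [hpn ha (genVec_mem k), cz_neg ha, hnegW, iha]
  refine octSub_induction (P := fun y => pair x y = bil (cz x) (cz y)) (fun k => h1 k x hx) ?_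
    (fun a b ha hb iha ihb => ?_) (fun a ha iha => ?_) hy
  · rw [pair_comm, pair_zero, cz_zero, bil_comm, bil_zero]
  · rw [pair_comm, pair_add ha hx, pair_comm a, pair_comm b, cz_add ha, bil_comm, bil_add, bil_comm _ (cz x),
      bil_comm _ (cz x), iha, ihb]
  · rw [pair_comm, hpn ha hx, cz_neg ha, hnegW, pair_comm, iha]

theorem dvd_dot_self {x : GolayPt → ℤ} (hx : x ∈ octSub) : 32 ∣ dotInt x x := by
  refine octSub_induction (P := fun x => 32 ∣ dotInt x x)
    (fun k => (by decide +kernel : ∀ k, 32 ∣ dotInt (genVec k) (genVec k)) k) (by simp [dotInt])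
    (fun a b ha hb iha ihb => ?_) (fun a _ iha => ?_) hx
  · have h := dvd_dot ha hb
    have e : dotInt (a + b) (a + b) = dotInt a a + 2 * dotInt a b + dotInt b b := by
      simp only [dotInt, Pi.add_apply, Finset.mul_sum, ← Finset.sum_add_distrib]
      exact Finset.sum_congr rfl fun i _ => by ring
    omega
  · rwa [show dotInt (-a) (-a) = dotInt a a by simp [dotInt]]

/-- The quadratic form `dot / 32` modulo two. -/
def qv (x : GolayPt → ℤ) : ZMod 2 := ((dotInt x x / 32 : ℤ) : ZMod 2)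

theorem qv_add {a b : GolayPt → ℤ} (ha : a ∈ octSub) (hb : b ∈ octSub) :
    qv (a + b) = qv a + qv b + pair a b := by
  have e : dotInt (a + b) (a + b) = dotInt a a + 2 * dotInt a b + dotInt b b := by
    simp only [dotInt, Pi.add_apply, Finset.mul_sum, ← Finset.sum_add_distrib]
    exact Finset.sum_congr rfl fun i _ => by ring
  obtain ⟨p, hp⟩ := dvd_dot_self ha
  obtain ⟨q, hq⟩ := dvd_dot_self hb
  obtain ⟨r, hr⟩ := dvd_dot ha hb
  rw [qv, qv, qv, pair, e, hp, hq, hr,
    show 32 * p + 2 * (16 * r) + 32 * q = 32 * (p + q + r) by ring]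
  simp

/-- The quadratic form in coordinates. -/
theorem qv_eq {x : GolayPt → ℤ} (hx : x ∈ octSub) : qv x = quadFormPlus 4 (ZMod 2) (cz x) := by
  refine octSub_induction (P := fun x => qv x = quadFormPlus 4 (ZMod 2) (cz x))
    (fun k => (by decide +kernel : ∀ k, qv (genVec k) = quadFormPlus 4 (ZMod 2) (cz (genVec k))) k)
    ?_ (fun a b ha hb iha ihb => ?_) (fun a ha iha => ?_) hx
  · rw [cz_zero]; simp [qv, dotInt, quadFormPlus]
  · rw [qv_add ha hb, cz_add ha, qf_add, iha, ihb, pair_eq ha hb]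
  · have hnegW : -cz a = cz a := funext fun i => (by decide : ∀ c : ZMod 2, -c = c) _
    rw [cz_neg ha, hnegW, ← iha]
    simp [qv, dotInt]

end Cfsg.Agent.Co1Centralizer
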