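/-
The centraliser `cen` of the octad sign change in Co0 and its action `phi` on the eight coordinates.

* `cen`, `octMap`, `mat`, `cz_octMap`, `phi : cen →* isometryGroup`, `ap_phi`
* `ofCent` : the centraliser in Co2 inside `cen`;  `el k : cen` with `ap_phi_el`
-/
import Cfsg.Agent.Lib.Co1Centralizer.Coord
import Cfsg.Agent.Lib.Co2Centralizer.Elements
import Cfsg.Agent.Lib.Orth.Models

set_option autoImplicit false
open Cfsg
open Cfsg.Agent.Leech
open Cfsg.Agent.Co2Centralizer (octSub oct lift inv0 inv0_smul mem_octSub_iff_fixed cent mem_cent)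
open scoped Matrix

namespace Cfsg.Agent.Co1Centralizer

/-- The centraliser. -/
def cen : Subgroup Co0 := Subgroup.centralizer {inv0}

theorem mem_cen {g : Co0} : g ∈ cen ↔ g * inv0 = inv0 * g := Subgroup.mem_centralizer_singleton_iff

theorem smul_mem_octSub (g : cen) (x : octSub) :
    (((g : Co0) • lift x : leechLattice) : GolayPt → ℤ) ∈ octSub := by
  rw [mem_octSub_iff_fixed, ← mul_smul, ← mem_cen.1 g.2, mul_smul,
    (mem_octSub_iff_fixed (lift x)).1 x.2]

/-- The action on the octad lattice. -/
def octMap (g : cen) : octSub →+ octSub :=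
  AddMonoidHom.mk' (fun x => ⟨_, smul_mem_octSub g x⟩) fun x y =>
    Subtype.ext (by
      have h : (g : Co0) • lift (x + y) = (g : Co0) • lift x + (g : Co0) • lift y :=
        smul_vadd (g : Co0) (lift x) (lift y)
      exact congrArg (fun v : leechLattice => (v : GolayPt → ℤ)) h)

theorem octMap_apply (g : cen) (x : octSub) :
    (octMap g x : GolayPt → ℤ) = ((g : Co0) • lift x : leechLattice) := rfl

theorem octMap_mul (g h : cen) (x : octSub) : octMap (g * h) x = octMap g (octMap h x) :=
  Subtype.ext (congrArg (fun v : leechLattice => (v : GolayPt → ℤ))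
    (mul_smul (g : Co0) (h : Co0) (lift x)))

theorem dot_octMap (g : cen) (x y : octSub) :
    dotInt (octMap g x : GolayPt → ℤ) (octMap g y : GolayPt → ℤ) = dotInt x.1 y.1 :=
  dotInt_smul (g : Co0) (lift x) (lift y)

/-- The matrix on the eight coordinates. -/
def mat (g : cen) : Matrix (Fin 4 ⊕ Fin 4) (Fin 4 ⊕ Fin 4) (ZMod 2) :=
  Matrix.of fun k j => czHom (octMap g (bOct j)) k

theorem cz_octMap (g : cen) (x : octSub) : czHom (octMap g x) = mat g *ᵥ czHom x := by
  obtain ⟨n, y, rfl⟩ := exists_decomp x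
  rw [czHom_decomp]
  simp only [map_add, map_sum, map_zsmul]
  funext k
  simp only [Pi.add_apply, Finset.sum_apply, Pi.smul_apply, zsmul_eq_mul, Pi.mul_apply,
    Pi.intCast_apply]
  rw [show ((2 : ℤ) : ZMod 2) = 0 from rfl, zero_mul, add_zero, Matrix.mulVec, dotProduct]
  exact Finset.sum_congr rfl fun j _ => mul_comm _ _

theorem mat_mul (g h : cen) : mat (g * h) = mat g * mat h := by
  ext k j
  show czHom (octMap (g * h) (bOct j)) k = _
  rw [octMap_mul, cz_octMap]
  rfl

theorem mat_one : mat 1 = 1 := by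
  ext k j
  show czHom (bOct j) k = _
  rw [czHom_apply, Matrix.one_apply]
  exact cz_bv j k

theorem qf_mat (g : cen) (v : W) :
    quadFormPlus 4 (ZMod 2) (mat g *ᵥ v) = quadFormPlus 4 (ZMod 2) v := by
  obtain ⟨x, rfl⟩ := cz_surj v
  rw [← cz_octMap, czHom_apply, czHom_apply, ← qv_eq x.2, ← qv_eq (octMap g x).2, qv, qv, dot_octMap]

/-- The matrix as a homomorphism. -/
def matHom : cen →* Matrix (Fin 4 ⊕ Fin 4) (Fin 4 ⊕ Fin 4) (ZMod 2) :=
  ⟨⟨mat, mat_one⟩, mat_mul⟩

/-- The orthogonal group on the coordinates. -/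
abbrev OGrp : Type := Orth.IsoGrp (Orth.quadPlus 4 (ZMod 2))

/-- The homomorphism to the orthogonal group. -/
def phi : cen →* OGrp where
  toFun g := ⟨matHom.toHomUnits g, fun v _ => qf_mat g v⟩
  map_one' := Subtype.ext (map_one _)
  map_mul' g h := Subtype.ext (map_mul _ g h)

theorem ap_phi (g : cen) (v : W) : Orth.ap (phi g) v = mat g *ᵥ v := rfl

theorem ap_phi_cz (g : cen) (x : octSub) : Orth.ap (phi g) (czHom x) = czHom (octMap g x) :=
  (cz_octMap g x).symm

theorem mem_ker_of_fix {g : cen} (h : ∀ x : octSub, (g : Co0) • lift x = lift x) : g ∈ phi.ker := by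
  refine MonoidHom.mem_ker.2 (Orth.ext_ap fun v => ?_)
  obtain ⟨x, rfl⟩ := cz_surj v
  rw [ap_phi_cz, Orth.ap_one]
  exact congrArg czHom (Subtype.ext (congrArg (fun v : leechLattice => (v : GolayPt → ℤ)) (h x)))

/-! ### Elements -/

theorem cent_le : cent ≤ cen := inf_le_right

/-- The centraliser in Co2 inside the centraliser in Co0. -/
def ofCent : cent →* cen := Subgroup.inclusion cent_le

theorem ofCent_coe (g : cent) : ((ofCent g : cen) : Co0) = (g : Co0) := rfl

theorem signMask_code : Golay.isCode signMask = true := by decide +kernel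

/-- The monomial element moving the fixed vector. -/
def signCo0 : Co0 :=
  signEl (Golay.pts signMask)
    ((Golay.pts_mem_supports_iff (Golay.lt_of_isCode signMask_code)).2 signMask_code)

/-- Its coordinate function. -/
def signFun (x : GolayPt → ℤ) : GolayPt → ℤ := fun i =>
  if signMask.testBit (Golay.idx i) then -x i else x i

theorem vec_signCo0 (v : leechLattice) :
    ((signCo0 • v : leechLattice) : GolayPt → ℤ) = signFun v := by
  funext i
  rw [signCo0, vec_signEl]
  simp only [signFun, Golay.mem_pts]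

theorem signCo0_mem : signCo0 ∈ cen := by
  refine mem_cen.2 (co0_ext fun v => Subtype.ext (funext fun i => ?_))
  rw [mul_smul, mul_smul, inv0_smul, vec_signCo0, vec_signCo0]
  simp only [signFun, inv0_smul]
  split_ifs <;> rfl

/-- The five elements. -/
noncomputable def el (k : Fin 5) : cen :=
  if h : k.val < 4 then ofCent (Co2Centralizer.genEl ⟨k.val, h⟩) else ⟨signCo0, signCo0_mem⟩

/-- Their coordinate functions. -/
def elFun (k : Fin 5) (x : GolayPt → ℤ) : GolayPt → ℤ :=
  if h : k.val < 4 then Co2Centralizer.genFun ⟨k.val, h⟩ x else signFun x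

theorem vec_el (k : Fin 5) (v : leechLattice) :
    (((el k : Co0) • v : leechLattice) : GolayPt → ℤ) = elFun k v := by
  unfold el elFun
  split_ifs with h
  · exact Co2Centralizer.vec_genCo0 _ v
  · exact vec_signCo0 v

/-- The matrices as listed. -/
def elMat (k : Fin 5) : Matrix (Fin 4 ⊕ Fin 4) (Fin 4 ⊕ Fin 4) (ZMod 2) :=
  Matrix.of fun i j => toV ((matData.getD k.val []).getD (idx8 j) 0) i

theorem elFun_basis : ∀ (k : Fin 5) (j i : Fin 4 ⊕ Fin 4),
    cz (elFun k (bv j)) i = toV ((matData.getD k.val []).getD (idx8 j) 0) i := by decide +kernel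

theorem mat_el (k : Fin 5) : mat (el k) = elMat k := by
  ext i j
  show czHom (octMap (el k) (bOct j)) i = _
  rw [czHom_apply, octMap_apply, show ((el k : Co0) • lift (bOct j) : leechLattice).1 = elFun k (bv j) from
    vec_el k _]
  exact elFun_basis k j i

theorem ap_phi_el (k : Fin 5) (v : W) : Orth.ap (phi (el k)) v = elMat k *ᵥ v := by
  rw [ap_phi, mat_el]

end Cfsg.Agent.Co1Centralizer
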