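/-
The image of `phi` is the commutator subgroup of the orthogonal group, its kernel is `±` the kernel
in Co2.

* `range_phi`, `mem_ker_phi_iff`, `isSimpleGroup_omega`
-/
import Cfsg.Agent.Lib.Co1Centralizer.Group
import Cfsg.Agent.Lib.Co2Centralizer.Kernel
import Cfsg.Agent.Lib.Leech.Co0Center
import Cfsg.Agent.Lib.Leech.Even
import Cfsg.Agent.Lib.Orth.Simple
import Cfsg.Agent.Lib.Orth.Order

set_option autoImplicit false
open Cfsg
open Cfsg.Agent.Leech
open Cfsg.Agent.Co2Centralizer (octSub oct lift inv0 cent mem_cent uOct uVec uVec_mem)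
open scoped Matrix

namespace Cfsg.Agent.Co1Centralizer

/-- The standard form. -/
noncomputable abbrev QF : QuadraticForm (ZMod 2) W := Orth.quadPlus 4 (ZMod 2)

theorem polar_eq (a b : W) : QuadraticMap.polar ⇑QF a b = bil a b := by
  rw [Orth.coe_quadPlus, Orth.polar_quadPlus, bil]
  exact Finset.sum_congr rfl fun i _ => by ring

theorem refl_formula {v : W} (hv : quadFormPlus 4 (ZMod 2) v = 1) (x : W) :
    Orth.ap (Orth.refl QF v) x = x + bil v x • v := by
  rw [Orth.refl_ap, Orth.coe_quadPlus, hv, inv_one, one_mul, ← Orth.coe_quadPlus, polar_eq]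
  funext i
  simp only [Pi.sub_apply, Pi.add_apply, CharTwo.sub_eq_add]

/-- The class of the fixed vector. -/
def cu : W := toV seed

theorem cu_eq : cz uVec = cu := funext fun k => (by decide +kernel : ∀ k, cz uVec k = cu k) k

theorem qf_cu : quadFormPlus 4 (ZMod 2) cu = 1 := by decide +kernel

/-! ### Orbits -/

/-- Points reached from the seed along a list of moves. -/
def chain : List (ℕ × ℕ × ℕ) → List ℕ → List ℕ
  | [], seen => seen
  | (q, p, g) :: L, seen =>
    if seen.contains p = true ∧ elMat (Fin.ofNat 5 g) *ᵥ toV p = toV q then chain L (q :: seen)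
    else chain L seen

theorem chain_sound (P : ℕ → Prop) (G : Fin 5 → Prop)
    (hP : ∀ (k : Fin 5) (p q : ℕ), G k → P p → elMat k *ᵥ toV p = toV q → P q) :
    ∀ L seen, (∀ t ∈ L, G (Fin.ofNat 5 t.2.2)) → (∀ n ∈ seen, P n) → ∀ n ∈ chain L seen, P n
  | [], _, _, h => h
  | (q, p, g) :: L, seen, hG, h => by
    rw [chain]
    split_ifs with hc
    · refine chain_sound P G hP L _ (fun t ht => hG t (List.mem_cons_of_mem _ ht)) fun n hn => ?_
      rcases List.mem_cons.1 hn with rfl | hn
      · exact hP _ p _ (hG (n, p, g) List.mem_cons_self) (h p (List.contains_iff_mem.1 hc.1)) hc.2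
      · exact h n hn
    · exact chain_sound P G hP L _ (fun t ht => hG t (List.mem_cons_of_mem _ ht)) h

theorem chain_orbitData : chain orbitData [seed] = (orbitData.map Prod.fst).reverse ++ [seed] := by
  decide +kernel

theorem chain_perpData : chain perpData [centre] = (perpData.map Prod.fst).reverse ++ [centre] := by
  decide +kernel

theorem cover_orbit : ∀ v : W, quadFormPlus 4 (ZMod 2) v = 0 ∨
    ∃ n ∈ (orbitData.map Prod.fst).reverse ++ [seed], toV n = v := by decide +kernel

theorem cover_perp : ∀ v : W, quadFormPlus 4 (ZMod 2) v = 0 ∨ bil cu v = 1 ∨ v = cu ∨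
    ∃ n ∈ (perpData.map Prod.fst).reverse ++ [centre], toV n = v := by decide +kernel

theorem perp_gens : ∀ t ∈ perpData, (Fin.ofNat 5 t.2.2).val < 4 ∧
    elMat (Fin.ofNat 5 t.2.2) *ᵥ cu = cu := by decide +kernel

theorem exists_mid : ∀ v : W, quadFormPlus 4 (ZMod 2) v = 0 ∨
    ∃ w : W, quadFormPlus 4 (ZMod 2) w = 1 ∧ bil cu w = 0 ∧ bil w v = 0 := by decide +kernel

theorem exists_ap {v : W} (hv : quadFormPlus 4 (ZMod 2) v = 1) :
    ∃ g : cen, Orth.ap (phi g) cu = v := by
  obtain ⟨n, hn, rfl⟩ := (cover_orbit v).resolve_left (by rw [hv]; exact one_ne_zero)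
  refine chain_sound (fun n => ∃ g : cen, Orth.ap (phi g) cu = toV n) (fun _ => True) ?_ orbitData
    [seed] (fun _ _ => trivial) ?_ n (chain_orbitData ▸ hn)
  · rintro k p q - ⟨g, hg⟩ hq
    exact ⟨el k * g, by rw [map_mul, Orth.ap_mul, hg, ap_phi_el, hq]⟩
  · intro m hm
    rw [List.mem_singleton] at hm
    exact ⟨1, by rw [map_one, Orth.ap_one, hm]; rfl⟩

/-- The image. -/
noncomputable def img : Subgroup OGrp := phi.range

theorem transvection_check : ∀ x : W, elMat 3 *ᵥ x =
    (x + bil cu x • cu) + bil (toV centre) (x + bil cu x • cu) • toV centre := by decide +kernel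

theorem centre_mem_img : Orth.refl QF (toV centre) * Orth.refl QF cu ∈ img := by
  refine MonoidHom.mem_range.2 ⟨el 3, Orth.ext_ap fun x => ?_⟩
  rw [ap_phi_el, Orth.ap_mul, refl_formula qf_cu, refl_formula (by decide +kernel)]
  exact transvection_check x

theorem perp_mem_img {v : W} (hv : quadFormPlus 4 (ZMod 2) v = 1) (hb : bil cu v = 0) :
    Orth.refl QF v * Orth.refl QF cu ∈ img := by
  rcases cover_perp v with h | h | h | ⟨n, hn, rfl⟩
  · exact absurd (hv ▸ h) one_ne_zero
  · exact absurd (hb ▸ h) zero_ne_one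
  · subst h; rw [Orth.refl_mul_self]; exact one_mem _
  refine chain_sound (fun n => Orth.refl QF (toV n) * Orth.refl QF cu ∈ img)
    (fun k => elMat k *ᵥ cu = cu) ?_ perpData [centre] (fun t ht => (perp_gens t ht).2) ?_ n
    (chain_perpData ▸ hn)
  · intro k p q hk hp hq
    have hm : phi (el k) ∈ img := ⟨el k, rfl⟩
    have h := mul_mem (mul_mem hm hp) (inv_mem hm)
    rwa [← mul_assoc, show phi (el k) * Orth.refl QF (toV p) * Orth.refl QF cu * (phi (el k))⁻¹ =
      (phi (el k) * Orth.refl QF (toV p) * (phi (el k))⁻¹) *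
        (phi (el k) * Orth.refl QF cu * (phi (el k))⁻¹) by group, Orth.conj_refl, Orth.conj_refl,
      ap_phi_el, ap_phi_el, hq, hk] at h
  · intro m hm
    rw [List.mem_singleton] at hm
    exact hm ▸ centre_mem_img

theorem refl_mul_mem (v : W) :
    Orth.refl QF v * Orth.refl QF cu ∈ img ∨ Orth.refl QF v = 1 := by
  rcases (by decide : ∀ c : ZMod 2, c = 0 ∨ c = 1) (quadFormPlus 4 (ZMod 2) v) with hv | hv
  · exact Or.inr (Orth.refl_eq_one (Q := QF) (by rw [Orth.coe_quadPlus]; exact hv))
  left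
  obtain ⟨w, hw, hcw, hwv⟩ := (exists_mid v).resolve_left (by rw [hv]; exact one_ne_zero)
  obtain ⟨g, hg⟩ := exists_ap hw
  set v' := Orth.ap (phi g)⁻¹ v with hv'
  have hQv' : quadFormPlus 4 (ZMod 2) v' = 1 := (Orth.Q_ap (Q := QF) (phi g)⁻¹ v).trans hv
  have hb : bil cu v' = 0 := by
    rw [← polar_eq, ← Orth.polar_ap (Q := QF) (phi g), hg, hv', ← map_inv, ← Orth.ap_mul, ← map_mul,
      mul_inv_cancel, map_one, Orth.ap_one, polar_eq, hwv]
  have hm : phi g ∈ img := ⟨g, rfl⟩
  have h := mul_mem (mul_mem hm (perp_mem_img hQv' hb)) (inv_mem hm)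
  rw [← mul_assoc, show phi g * Orth.refl QF v' * Orth.refl QF cu * (phi g)⁻¹ =
      (phi g * Orth.refl QF v' * (phi g)⁻¹) * (phi g * Orth.refl QF cu * (phi g)⁻¹) by group,
    Orth.conj_refl, Orth.conj_refl, hg, hv', ← Orth.ap_mul, mul_inv_cancel, Orth.ap_one] at h
  have h2 := perp_mem_img hw hcw
  have := mul_mem h h2
  rwa [show Orth.refl QF v * Orth.refl QF w * (Orth.refl QF w * Orth.refl QF cu) =
    Orth.refl QF v * (Orth.refl QF w * Orth.refl QF w) * Orth.refl QF cu by group,
    Orth.refl_mul_self, mul_one] at this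

theorem refl_conj_mem {x : OGrp} (hx : x ∈ img) :
    Orth.refl QF cu * x * Orth.refl QF cu ∈ img := by
  have hq : QF (Orth.ap x cu) = 1 := (Orth.Q_ap (Q := QF) x cu).trans qf_cu
  have h1 : Orth.refl QF (Orth.ap x cu) * Orth.refl QF cu ∈ img :=
    (refl_mul_mem _).resolve_right fun h => by
      have := congrArg (fun g => Orth.ap g (Orth.ap x cu)) h
      simp only [Orth.ap_one] at this
      obtain ⟨z, hz⟩ := (by decide +kernel : ∀ v : W, quadFormPlus 4 (ZMod 2) v = 0 ∨
        ∃ z : W, bil v z = 1) (Orth.ap x cu) |>.resolve_left (by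
          rw [Orth.coe_quadPlus] at hq; rw [hq]; exact one_ne_zero)
      have h2 := congrArg (fun g => Orth.ap g z) h
      simp only [Orth.ap_one] at h2
      rw [refl_formula (by rw [← Orth.coe_quadPlus]; exact hq), hz, one_smul, add_eq_left] at h2
      rw [h2, Orth.coe_quadPlus] at hq
      simp [quadFormPlus] at hq
  have h2 := inv_mem h1
  rw [mul_inv_rev, Orth.refl_inv, Orth.refl_inv] at h2
  have h3 := mul_mem h2 hx
  rwa [← Orth.conj_refl, show Orth.refl QF cu * (x * Orth.refl QF cu * x⁻¹) * x =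
    Orth.refl QF cu * x * Orth.refl QF cu by group] at h3

theorem mem_or_mul_mem (g : OGrp) : g ∈ img ∨ g * Orth.refl QF cu ∈ img := by
  let S : Subgroup OGrp :=
    { carrier := {g | g ∈ img ∨ g * Orth.refl QF cu ∈ img}
      one_mem' := Or.inl (one_mem _)
      mul_mem' := by
        rintro a b (ha | ha) (hb | hb)
        · exact Or.inl (mul_mem ha hb)
        · exact Or.inr (by rw [mul_assoc]; exact mul_mem ha hb)
        · refine Or.inr ?_
          have := mul_mem ha (refl_conj_mem hb)
          rwa [show a * Orth.refl QF cu * (Orth.refl QF cu * b * Orth.refl QF cu) =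
            a * (Orth.refl QF cu * Orth.refl QF cu) * b * Orth.refl QF cu by group,
            Orth.refl_mul_self, mul_one] at this
        · refine Or.inl ?_
          have := mul_mem ha (refl_conj_mem hb)
          rwa [show a * Orth.refl QF cu * (Orth.refl QF cu * (b * Orth.refl QF cu) * Orth.refl QF cu) =
            a * (Orth.refl QF cu * Orth.refl QF cu) * b * (Orth.refl QF cu * Orth.refl QF cu) by group,
            Orth.refl_mul_self, mul_one, mul_one] at this
      inv_mem' := by
        rintro a (ha | ha)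
        · exact Or.inl (inv_mem ha)
        · refine Or.inr ?_
          have := refl_conj_mem (inv_mem ha)
          rwa [mul_inv_rev, Orth.refl_inv, ← mul_assoc, Orth.refl_mul_self, one_mul] at this }
  have hG : Orth.Good QF := Orth.Good.of_card (Orth.quadPlus_nondeg 4) (Or.inr (by simp))
  have hle : Orth.reflGen QF ≤ S := (Subgroup.closure_le _).2 (by
    rintro _ ⟨v, rfl⟩
    rcases refl_mul_mem v with h | h
    · exact Or.inr h
    · rw [h]; exact one_mem S)
  exact hle (hG.gen ▸ Subgroup.mem_top g)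

/-! ### The kernel -/

/-- The scalar `-1` as an element of the centraliser. -/
def negEl : cen := ⟨negOne, mem_cen.2 (Subgroup.mem_center_iff.1 negOne_mem_center inv0).symm⟩

theorem phi_negEl : phi negEl = 1 := by
  refine Orth.ext_ap fun v => ?_
  obtain ⟨x, rfl⟩ := cz_surj v
  rw [ap_phi_cz, Orth.ap_one, show octMap negEl x = -x from Subtype.ext (congrArg
    (fun v : leechLattice => (v : GolayPt → ℤ)) (negOne_smul (lift x))), map_neg]
  funext i
  exact (by decide : ∀ c : ZMod 2, -c = c) _

theorem pm_of_two_congr {v w z : GolayPt → ℤ} (hw : w ∈ leechLattice) (hz : z ∈ leechLattice)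
    (h : v = w + (2 : ℤ) • z) (hv : sqNorm v = 32) (hwn : sqNorm w = 32) : v = w ∨ v = -w := by
  by_cases h1 : z = 0
  · left; rw [h, h1, smul_zero, add_zero]
  by_cases h2 : w + z = 0
  · right
    rw [h, eq_neg_of_add_eq_zero_left h2]
    abel
  exfalso
  have n1 := min_norm hz h1
  have n2 := min_norm (leechLattice.add_mem hw hz) h2
  have e : sqNorm v + sqNorm w = 2 * sqNorm z + 2 * sqNorm (w + z) := by
    simp only [sqNorm, h, Pi.add_apply, Pi.smul_apply, smul_eq_mul, Finset.mul_sum,
      ← Finset.sum_add_distrib]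
    exact Finset.sum_congr rfl fun i _ => by ring
  omega

theorem basis_perp : ∀ j, bil cu (cz (Co2Centralizer.bv j)) = 0 := by decide +kernel

/-- An element acting trivially on the classes orthogonal to the seed lies in `±` the kernel in Co2. -/
theorem exists_kerEl {g : cen} (h : ∀ v : W, bil cu v = 0 → Orth.ap (phi g) v = v) :
    ∃ σ c, g = ofCent (Co2Centralizer.kerEl σ c) ∨ g = negEl * ofCent (Co2Centralizer.kerEl σ c) := by
  have hcu : bil cu cu = 0 := by decide +kernel
  have hu : czHom (octMap g uOct) = czHom uOct := by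
    rw [← ap_phi_cz, show czHom uOct = cu from cu_eq, h cu hcu]
  obtain ⟨y, hy⟩ := exists_two_of_cz_eq_zero
    (x := octMap g uOct - uOct) (by rw [map_sub, hu, sub_self])
  have hy' : (octMap g uOct).1 = uVec + (2 : ℤ) • y.1 := by
    have := congrArg Subtype.val (eq_add_of_sub_eq' hy)
    simpa [uOct] using this
  have hnorm : sqNorm (octMap g uOct).1 = 32 := by
    rw [octMap_apply, sqNorm_smul]
    exact (by decide +kernel : sqNorm uVec = 32)
  have hsign : ∃ e : cent, g = ofCent e ∨ g = negEl * ofCent e := by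
    rcases pm_of_two_congr uVec_mem.1 y.2.1 hy' hnorm (by decide +kernel) with h1 | h1
    · exact ⟨⟨(g : Co0), mem_cent.2 ⟨Subtype.ext h1, mem_cen.1 g.2⟩⟩, Or.inl rfl⟩
    · have h2 : (g : Co0) • Spor.leechU = -Spor.leechU := Subtype.ext h1
      refine ⟨⟨negOne * (g : Co0), mem_cent.2 ⟨by rw [mul_smul, h2, negOne_smul, neg_neg],
        mem_cen.1 (negEl * g).2⟩⟩, Or.inr (Subtype.ext ?_)⟩
      show (g : Co0) = negOne * (negOne * (g : Co0))
      rw [← mul_assoc, show negOne * negOne = 1 from co0_ext fun v => by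
        rw [mul_smul, negOne_smul, negOne_smul, neg_neg, one_smul], one_mul]
  obtain ⟨e, he⟩ := hsign
  have hphi : phi g = phi (ofCent e) := by
    rcases he with rfl | rfl
    · rfl
    · rw [map_mul, phi_negEl, one_mul]
  have hker : e ∈ Co2Centralizer.phi.ker := by
    refine MonoidHom.mem_ker.2 (Subtype.ext (Matrix.ext fun k j => ?_))
    show Co2Centralizer.cz (Co2Centralizer.octMap e (Co2Centralizer.bOct j)).1 k = _
    have h3 : czHom (octMap (ofCent e) (Co2Centralizer.bOct j)) = czHom (Co2Centralizer.bOct j) := by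
      rw [← ap_phi_cz, ← hphi]
      exact h _ (basis_perp j)
    obtain ⟨z, hz⟩ := exists_two_of_cz_eq_zero
      (x := octMap (ofCent e) (Co2Centralizer.bOct j) - Co2Centralizer.bOct j)
      (by rw [map_sub, h3, sub_self])
    have h4 : Co2Centralizer.octMap e (Co2Centralizer.bOct j) =
        Co2Centralizer.bOct j + (2 : ℤ) • z := eq_add_of_sub_eq' hz
    show Co2Centralizer.czHom (Co2Centralizer.octMap e (Co2Centralizer.bOct j)) k = _
    rw [h4, map_add, map_zsmul, Pi.add_apply, Pi.smul_apply, zsmul_eq_mul,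
      show ((2 : ℤ) : ZMod 2) = 0 from rfl, zero_mul, add_zero]
    exact (Co2Centralizer.cz_bv j k).trans (Matrix.one_apply ..).symm
  obtain ⟨σ, c, rfl⟩ := Co2Centralizer.exists_of_mem_ker hker
  exact ⟨σ, c, he⟩

theorem phi_ofCent_kerEl (σ : Golay.octadFix oct) (c : Co2Centralizer.avoid) :
    phi (ofCent (Co2Centralizer.kerEl σ c)) = 1 :=
  MonoidHom.mem_ker.1 (mem_ker_of_fix fun x => Co2Centralizer.kerMono_fix σ c x)

theorem mem_ker_phi_iff {g : cen} : g ∈ phi.ker ↔
    ∃ σ c, g = ofCent (Co2Centralizer.kerEl σ c) ∨ g = negEl * ofCent (Co2Centralizer.kerEl σ c) := by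
  constructor
  · intro hg
    exact exists_kerEl fun v _ => by rw [MonoidHom.mem_ker.1 hg, Orth.ap_one]
  · rintro ⟨σ, c, rfl | rfl⟩ <;> rw [MonoidHom.mem_ker] <;>
      simp [phi_negEl, phi_ofCent_kerEl]

theorem refl_notMem : Orth.refl QF cu ∉ img := by
  rintro ⟨g, hg⟩
  obtain ⟨σ, c, h⟩ := exists_kerEl (g := g) fun v hv => by
    rw [hg, refl_formula qf_cu, hv, zero_smul, add_zero]
  have h1 : phi g = 1 := MonoidHom.mem_ker.1 (mem_ker_phi_iff.2 ⟨σ, c, h⟩)
  obtain ⟨z, hz⟩ : ∃ z : W, cu + bil cu z • cu ≠ cu := by decide +kernel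
  have h2 := congrArg (fun x => Orth.ap x z) (h1.symm.trans hg)
  simp only [Orth.ap_one] at h2
  rw [refl_formula qf_cu] at h2
  exact hz (by rw [left_eq_add.1 h2, add_zero])

theorem img_index : img.index = 2 := by
  rw [Subgroup.index_eq_two_iff]
  refine ⟨Orth.refl QF cu, fun b => ?_⟩
  rcases mem_or_mul_mem b with h | h
  · exact Or.inr ⟨h, fun h' => refl_notMem (by
      have := mul_mem (inv_mem h) h'
      rwa [inv_mul_cancel_left] at this)⟩
  · exact Or.inl ⟨h, fun h' => refl_notMem (by
      have := mul_mem (inv_mem h') h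
      rwa [inv_mul_cancel_left] at this)⟩

theorem range_phi : phi.range = Omega (ZMod 2) (quadFormPlus 4 (ZMod 2)) := by
  have hG : Orth.Good QF := Orth.Good.of_card (Orth.quadPlus_nondeg 4) (Or.inr (by simp))
  haveI : img.Normal := Subgroup.normal_of_index_eq_two img_index
  have hle : Omega (ZMod 2) ⇑QF ≤ img := by
    refine Subgroup.Normal.quotient_commutative_iff_commutator_le.1 ?_
    haveI : Fact (Nat.Prime 2) := ⟨Nat.prime_two⟩
    haveI : IsCyclic (OGrp ⧸ img) := isCyclic_of_prime_card (p := 2)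
      (by rw [← Subgroup.index_eq_card, img_index])
    exact IsMulCommutative.mk ⟨fun a b => (IsCyclic.commGroup).mul_comm a b⟩
  refine (Subgroup.eq_of_le_of_card_ge hle ?_).symm
  have h1 := Subgroup.card_mul_index img
  have h2 := Subgroup.card_mul_index (Omega (ZMod 2) ⇑QF)
  rw [img_index] at h1
  rw [Orth.omega_index_two hG (by simp) rfl] at h2
  exact le_of_eq (Nat.eq_of_mul_eq_mul_right two_pos (h1.trans h2.symm))

theorem isSimpleGroup_omega :
    IsSimpleGroup ↥(Omega (ZMod 2) (quadFormPlus 4 (ZMod 2))) := by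
  have hnd := Orth.quadPlus_nondeg (F := ZMod 2) 4
  have hG : Orth.Good QF := Orth.Good.of_card hnd (Or.inr (by simp))
  have hbot : Subgroup.center ↥(Omega (ZMod 2) ⇑QF) = ⊥ :=
    Orth.center_omega_eq_bot hnd (by simp)
      (Orth.omega_eq_eichGen hG (by simp) (Or.inr (by simp))).ge (Or.inr rfl)
  haveI : IsSimpleGroup (POmega (ZMod 2) ⇑QF) := Orth.isSimpleGroup_pomega hnd (by simp)
  exact (((QuotientGroup.quotientMulEquivOfEq hbot).trans QuotientGroup.quotientBot).symm).isSimpleGroup

end Cfsg.Agent.Co1Centralizer
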