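/-
The centraliser of the octad involution `z1` in Co1 is large extraspecial with quotient Ω⁺(8, 2).

* `z1`, `proj : cen →* cz1`, `psi`, `Qz := psi.ker`
* `psi_range`, `isExtraspecial_Qz`, `natCard_Qz`, `genFitting_eq`, `exists_fused`
-/
import Cfsg.Agent.Lib.Co1Centralizer.Image
import Cfsg.Agent.Lib.LargeExtraspecial.Simple
import Cfsg.Agent.Lib.LocalCharP.Basic
import Cfsg.Agent.Lib.Cores.Basic
import Cfsg.Agent.Lib.Golay.M24

set_option autoImplicit false
open scoped Pointwise commutatorElement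
open Cfsg
open Cfsg.Agent.Leech
open Cfsg.Agent.Co2Centralizer (octSub oct lift inv0 inv0_smul mem_octSub_iff_fixed cent mem_cent)

namespace Cfsg.Agent.Co1Centralizer

instance : Finite Co0 := Nat.finite_of_card_ne_zero (by rw [card_co0]; norm_num)

/-- The involution of Co1. -/
def z1 : Spor.Co1 := QuotientGroup.mk inv0

/-- Its centraliser. -/
abbrev cz1 : Subgroup Spor.Co1 := Subgroup.centralizer {z1}

theorem inv0_mul_self : inv0 * inv0 = 1 := co0_ext fun v => Subtype.ext (funext fun i => by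
  rw [mul_smul, inv0_smul, inv0_smul, one_smul]
  split_ifs <;> omega)

theorem mk_eq_one_iff {g : Co0} : (QuotientGroup.mk g : Spor.Co1) = 1 ↔ g = 1 ∨ g = negOne := by
  rw [QuotientGroup.eq_one_iff]
  exact ⟨center_eq, by rintro (rfl | rfl); exacts [one_mem _, negOne_mem_center]⟩

theorem inv0_eight (j : GolayPt) :
    ((inv0 • eightVec j : leechLattice) : GolayPt → ℤ) j = if j ∈ oct then 8 else -8 := by
  rw [inv0_smul, coe_eightVec, Pi.single_eq_same]

theorem orderOf_z1 : orderOf z1 = 2 := by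
  haveI : Fact (Nat.Prime 2) := ⟨Nat.prime_two⟩
  refine orderOf_eq_prime ?_ ?_
  · rw [z1, sq, ← QuotientGroup.mk_mul, inv0_mul_self]
    rfl
  · intro h
    rcases mk_eq_one_iff.1 h with h | h
    · obtain ⟨j, hj⟩ : ∃ j : GolayPt, j ∉ oct := by decide +kernel
      have h2 := inv0_eight j
      rw [h, one_smul, if_neg hj, coe_eightVec, Pi.single_eq_same] at h2
      norm_num at h2
    · obtain ⟨j, hj⟩ : ∃ j : GolayPt, j ∈ oct := ⟨none, Co2Centralizer.none_mem_oct⟩
      have h2 := inv0_eight j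
      rw [h, negOne_smul, if_pos hj] at h2
      rw [show ((-eightVec j : leechLattice) : GolayPt → ℤ) j = -((eightVec j : GolayPt → ℤ) j) from rfl,
        coe_eightVec, Pi.single_eq_same] at h2
      norm_num at h2

/-- No element of Co0 takes the involution to its negative. -/
theorem not_anticommute (g : Co0) : g * inv0 ≠ negOne * (inv0 * g) := by
  intro h
  classical
  let S : Finset GolayPt := octᶜ
  have hfix : ∀ i ∈ S, ((g • eightVec i : leechLattice) : GolayPt → ℤ) ∈ octSub := by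
    intro i hi
    rw [mem_octSub_iff_fixed]
    have e1 : inv0 • eightVec i = -eightVec i := Subtype.ext (funext fun l => by
      rw [inv0_smul]
      show _ = -((eightVec i : GolayPt → ℤ) l)
      rw [coe_eightVec]
      by_cases hl : l = i
      · subst hl; rw [if_neg (Finset.mem_compl.1 hi)]
      · rw [Pi.single_eq_of_ne hl]; simp)
    have e2 := congrArg (fun x : Co0 => x • eightVec i) h
    simp only [mul_smul, e1, smul_vneg, negOne_smul] at e2
    exact (neg_injective e2).symm
  let R : Finset ({i // i ∈ oct} → ℤ) :=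
    S.image fun i l => ((g • eightVec i : leechLattice) : GolayPt → ℤ) l.1
  have hdot : ∀ i ∈ S, ∀ j ∈ S, dotInt
      (fun l : {i // i ∈ oct} => ((g • eightVec i : leechLattice) : GolayPt → ℤ) l.1)
      (fun l : {i // i ∈ oct} => ((g • eightVec j : leechLattice) : GolayPt → ℤ) l.1) =
        if i = j then 64 else 0 := by
    intro i hi j _
    have e : dotInt ((g • eightVec i : leechLattice) : GolayPt → ℤ)
        ((g • eightVec j : leechLattice) : GolayPt → ℤ) = if i = j then 64 else 0 := by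
      rw [dotInt_smul, coe_eightVec, coe_eightVec]
      simp only [dotInt, Pi.single_apply, ite_mul, zero_mul, Finset.sum_ite_eq', Finset.mem_univ, if_true]
      split_ifs <;> simp_all
    rw [← e]
    simp only [dotInt]
    rw [← Finset.sum_subtype oct (fun _ => Iff.rfl) (fun l =>
      ((g • eightVec i : leechLattice) : GolayPt → ℤ) l * ((g • eightVec j : leechLattice) : GolayPt → ℤ) l)]
    exact Finset.sum_subset (Finset.subset_univ _) fun l _ hl => by rw [(hfix i hi).2 l hl, zero_mul]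
  have hinj : Set.InjOn (fun i (l : {i // i ∈ oct}) =>
      ((g • eightVec i : leechLattice) : GolayPt → ℤ) l.1) S := by
    intro i hi j hj hij
    have h1 := hdot i hi j hj
    simp only at hij
    rw [hij, hdot j hj j hj, if_pos rfl] at h1
    by_contra hne
    rw [if_neg hne] at h1
    norm_num at h1
  have hle := card_le_of_orthogonal R (fun y hy h0 => by
    obtain ⟨i, hi, rfl⟩ := Finset.mem_image.1 hy
    have h1 := hdot i hi i hi
    rw [h0, if_pos rfl] at h1
    simp [dotInt] at h1) (fun y hy z hz hne => by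
    obtain ⟨i, hi, rfl⟩ := Finset.mem_image.1 hy
    obtain ⟨j, hj, rfl⟩ := Finset.mem_image.1 hz
    rw [hdot i hi j hj, if_neg (fun e => hne (by subst e; rfl))])
  rw [Finset.card_image_of_injOn hinj, Finset.card_compl, Fintype.card_coe,
    show oct.card = 8 from Co2Centralizer.oct_mem.2] at hle
  simp at hle

theorem mk_mem_cz1 {g : Co0} : (QuotientGroup.mk g : Spor.Co1) ∈ cz1 ↔ g ∈ cen := by
  rw [Subgroup.mem_centralizer_singleton_iff, z1, ← QuotientGroup.mk_mul, ← QuotientGroup.mk_mul]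
  refine ⟨fun h => ?_, fun h => by rw [mem_cen.1 h]⟩
  have h1 : (QuotientGroup.mk ((g * inv0) * (inv0 * g)⁻¹) : Spor.Co1) = 1 := by
    rw [QuotientGroup.mk_mul, h, QuotientGroup.mk_inv, mul_inv_cancel]
  rcases mk_eq_one_iff.1 h1 with h2 | h2
  · exact mem_cen.2 (mul_inv_eq_one.1 h2)
  · exact absurd (mul_inv_eq_iff_eq_mul.1 h2) (not_anticommute g)

/-- The projection. -/
def proj : cen →* cz1 :=
  ((QuotientGroup.mk' _).comp cen.subtype).codRestrict _ fun g => mk_mem_cz1.2 g.2

theorem proj_coe (g : cen) : ((proj g : cz1) : Spor.Co1) = QuotientGroup.mk (g : Co0) := rfl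

theorem proj_surjective : Function.Surjective proj := by
  rintro ⟨x, hx⟩
  obtain ⟨g, rfl⟩ := QuotientGroup.mk_surjective x
  exact ⟨⟨g, mk_mem_cz1.1 hx⟩, rfl⟩

theorem mem_ker_proj {g : cen} : g ∈ proj.ker ↔ g = 1 ∨ g = negEl := by
  rw [MonoidHom.mem_ker, ← OneMemClass.coe_eq_one, proj_coe, mk_eq_one_iff]
  exact or_congr OneMemClass.coe_eq_one ⟨fun h => Subtype.ext h, fun h => congrArg Subtype.val h⟩

theorem proj_negEl : proj negEl = 1 := mem_ker_proj.2 (Or.inr rfl)

theorem ker_proj_le : proj.ker ≤ phi.ker := by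
  intro g hg
  rcases mem_ker_proj.1 hg with rfl | rfl
  · exact one_mem _
  · exact phi_negEl

/-- The action of the centraliser. -/
noncomputable def psi : cz1 →* OGrp := proj.liftOfSurjective proj_surjective ⟨phi, ker_proj_le⟩

theorem psi_proj (g : cen) : psi (proj g) = phi g :=
  MonoidHom.liftOfRightInverse_comp_apply _ _ _ ⟨phi, ker_proj_le⟩ g

theorem psi_range : psi.range = Omega (ZMod 2) (quadFormPlus 4 (ZMod 2)) := by
  rw [← range_phi]
  ext x
  constructor
  · rintro ⟨c, rfl⟩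
    obtain ⟨g, rfl⟩ := proj_surjective c
    exact ⟨g, (psi_proj g).symm⟩
  · rintro ⟨g, rfl⟩
    exact ⟨proj g, psi_proj g⟩

theorem negEl_notMem_cent : ∀ e : cent, ofCent e ≠ negEl := by
  intro e h
  have h1 := (mem_cent.1 e.2).1
  rw [show (e : Co0) = negOne from congrArg Subtype.val h, negOne_smul] at h1
  have h2 := congrFun (congrArg Subtype.val h1) none
  change -Spor.vecU none = Spor.vecU none at h2
  rw [show Spor.vecU none = 4 from rfl] at h2
  norm_num at h2

theorem proj_ofCent_injective : Function.Injective (proj.comp ofCent) := by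
  rw [injective_iff_map_eq_one]
  intro e he
  rcases mem_ker_proj.1 (MonoidHom.mem_ker.2 he) with h | h
  · exact Subtype.ext (congrArg (fun x : cen => (x : Co0)) h)
  · exact absurd h (negEl_notMem_cent e)

theorem exists_of_mem_ker_psi {x : cz1} (hx : x ∈ psi.ker) :
    ∃ k : cent, k ∈ Co2Centralizer.phi.ker ∧ proj (ofCent k) = x := by
  obtain ⟨g, rfl⟩ := proj_surjective x
  have hg : g ∈ phi.ker := by rw [MonoidHom.mem_ker, ← psi_proj]; exact hx
  obtain ⟨σ, c, h | h⟩ := mem_ker_phi_iff.1 hg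
  · exact ⟨_, Co2Centralizer.kerEl_mem_ker σ c, by rw [h]⟩
  · exact ⟨_, Co2Centralizer.kerEl_mem_ker σ c, by rw [h, map_mul, proj_negEl, one_mul]⟩

/-- The kernel in Co2 as the kernel here. -/
noncomputable def kerEquiv : ↥Co2Centralizer.phi.ker ≃* ↥psi.ker :=
  MulEquiv.ofBijective
    (((proj.comp ofCent).comp Co2Centralizer.phi.ker.subtype).codRestrict _ fun k => by
      obtain ⟨σ, c, h⟩ := Co2Centralizer.exists_of_mem_ker k.2
      rw [MonoidHom.mem_ker]
      show psi (proj (ofCent k.1)) = 1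
      rw [psi_proj, h, phi_ofCent_kerEl])
    ⟨fun a b h => Subtype.ext (proj_ofCent_injective (congrArg Subtype.val h)), fun x => by
      obtain ⟨k, hk, e⟩ := exists_of_mem_ker_psi x.2
      exact ⟨⟨k, hk⟩, Subtype.ext e⟩⟩

theorem natCard_Qz : Nat.card psi.ker = 2 ^ 9 :=
  (Nat.card_congr kerEquiv.toEquiv).symm.trans Co2Centralizer.natCard_ker_phi

theorem isExtraspecial_Qz : Cfsg.IsExtraspecial 2 ↥psi.ker :=
  LargeExtraspecial.isExtraspecial_congr kerEquiv Co2Centralizer.isExtraspecial_ker_phi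

/-! ### The centraliser of the kernel -/

/-- A code word avoiding the octad which is moved by the third monomial element. -/
def sepMask : ℕ := 0x3da100

theorem sepMask_ok : Golay.isCode sepMask = true ∧ sepMask &&& Golay.octad0 = 0 := by decide +kernel

theorem sep_avoid : Golay.pts sepMask ∈ Co2Centralizer.avoid :=
  ⟨(Golay.pts_mem_supports_iff (Golay.lt_of_isCode sepMask_ok.1)).2 sepMask_ok.1, by
    rw [Finset.disjoint_iff_inter_eq_empty, oct, ← Golay.pts_and, sepMask_ok.2, Golay.pts_zero]⟩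

/-- The sign change on that word. -/
def sepEl : cent := Co2Centralizer.kerEl ⟨1, one_mem _⟩ ⟨Golay.pts sepMask, sep_avoid⟩

/-- Its coordinate function. -/
def sepFun (x : GolayPt → ℤ) : GolayPt → ℤ := fun i =>
  if sepMask.testBit (Golay.idx i) then -x i else x i

theorem vec_sepEl (v : leechLattice) :
    (((sepEl : Co0) • v : leechLattice) : GolayPt → ℤ) = sepFun v := by
  funext i
  show ((Co2Centralizer.kerMono _ _ • v : leechLattice) : GolayPt → ℤ) i = _
  rw [Co2Centralizer.kerMono, vec_mono]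
  simp only [signedPerm, sepFun, Golay.mem_pts]
  rfl

theorem sep_check : ∃ (j i : GolayPt), Co2Centralizer.genFun 3 (sepFun (Pi.single j 8)) i ≠
      sepFun (Co2Centralizer.genFun 3 (Pi.single j 8)) i := by decide +kernel

theorem sep_check' : ∃ (j i : GolayPt), Co2Centralizer.genFun 3 (sepFun (Pi.single j 8)) i ≠
      Co2Centralizer.invFun0 (sepFun (Co2Centralizer.genFun 3 (Pi.single j 8))) i := by decide +kernel

theorem sep_ne : Co2Centralizer.genEl 3 * sepEl ≠ sepEl * Co2Centralizer.genEl 3 ∧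
    Co2Centralizer.genEl 3 * sepEl ≠ Co2Centralizer.invEl * (sepEl * Co2Centralizer.genEl 3) := by
  constructor <;> intro h
  · obtain ⟨j, i, hne⟩ := sep_check
    have h2 := congrArg (fun e : cent => (((e : Co0) • eightVec j : leechLattice) : GolayPt → ℤ) i) h
    simp only [Subgroup.coe_mul, mul_smul] at h2
    rw [show ((Co2Centralizer.genEl 3 : cent) : Co0) = Co2Centralizer.genCo0 3 from rfl,
      Co2Centralizer.vec_genCo0, vec_sepEl, vec_sepEl, Co2Centralizer.vec_genCo0, coe_eightVec] at h2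
    exact hne h2
  · obtain ⟨j, i, hne⟩ := sep_check'
    have h2 := congrArg (fun e : cent => (((e : Co0) • eightVec j : leechLattice) : GolayPt → ℤ) i) h
    simp only [Subgroup.coe_mul, mul_smul] at h2
    rw [show ((Co2Centralizer.genEl 3 : cent) : Co0) = Co2Centralizer.genCo0 3 from rfl,
      show ((Co2Centralizer.invEl : cent) : Co0) = inv0 from rfl,
      Co2Centralizer.vec_genCo0, vec_sepEl, inv0_smul, vec_sepEl, Co2Centralizer.vec_genCo0,
      coe_eightVec] at h2
    exact hne h2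

theorem commutator_cases {a b : cent} (ha : a ∈ Co2Centralizer.phi.ker)
    (hb : b ∈ Co2Centralizer.phi.ker) : a * b = b * a ∨ a * b = Co2Centralizer.invEl * (b * a) := by
  haveI : Fact (Nat.Prime 2) := ⟨Nat.prime_two⟩
  obtain ⟨σ, c, rfl⟩ := Co2Centralizer.exists_of_mem_ker ha
  obtain ⟨τ, e, rfl⟩ := Co2Centralizer.exists_of_mem_ker hb
  have hz : Co2Centralizer.kerEl σ c * Co2Centralizer.kerEl τ e *
      (Co2Centralizer.kerEl τ e * Co2Centralizer.kerEl σ c)⁻¹ = 1 ∨
      Co2Centralizer.kerEl σ c * Co2Centralizer.kerEl τ e *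
      (Co2Centralizer.kerEl τ e * Co2Centralizer.kerEl σ c)⁻¹ = Co2Centralizer.invEl := by
    obtain ⟨⟨-, -, hcomm⟩, hcard⟩ := Co2Centralizer.isExtraspecial_ker_phi
    let x : Co2Centralizer.phi.ker := ⟨_, Co2Centralizer.kerEl_mem_ker σ c⟩
    let y : Co2Centralizer.phi.ker := ⟨_, Co2Centralizer.kerEl_mem_ker τ e⟩
    let z : Co2Centralizer.phi.ker := ⟨Co2Centralizer.invEl,
      Co2Centralizer.kerEl_full ▸ Co2Centralizer.kerEl_mem_ker _ _⟩
    have hzc : z ∈ Subgroup.center Co2Centralizer.phi.ker :=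
      Subgroup.mem_center_iff.2 fun q => Subtype.ext (Subtype.ext (mem_cent.1 q.1.2).2)
    have hxy : x * y * (y * x)⁻¹ ∈ Subgroup.center Co2Centralizer.phi.ker := by
      rw [← hcomm, mul_inv_rev, show x * y * (x⁻¹ * y⁻¹) = ⁅x, y⁆ by
        rw [commutatorElement_def]; group]
      exact Subgroup.commutator_mem_commutator (Subgroup.mem_top _) (Subgroup.mem_top _)
    have hz1 : z ≠ 1 := fun h => by
      have h2 : inv0 = 1 := congrArg (fun q : Co2Centralizer.phi.ker => ((q.1 : cent) : Co0)) h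
      exact orderOf_z1 |> fun h3 => by rw [z1, h2, QuotientGroup.mk_one, orderOf_one] at h3; norm_num at h3
    rcases eq_or_ne (x * y * (y * x)⁻¹) 1 with h | h
    · exact Or.inl (congrArg Subtype.val h)
    · refine Or.inr (congrArg Subtype.val (?_ : x * y * (y * x)⁻¹ = z))
      obtain ⟨u, v, huv, huniv⟩ := Nat.card_eq_two_iff.1 hcard
      have key : ∀ w : Subgroup.center Co2Centralizer.phi.ker, w = u ∨ w = v := fun w => by
        have := Set.eq_univ_iff_forall.1 huniv w
        simpa using this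
      have h1 := key 1
      have h2 := key ⟨_, hxy⟩
      have h3 := key ⟨z, hzc⟩
      have hb' : (⟨_, hxy⟩ : Subgroup.center Co2Centralizer.phi.ker) ≠ 1 := fun e => h (congrArg Subtype.val e)
      have hc' : (⟨z, hzc⟩ : Subgroup.center Co2Centralizer.phi.ker) ≠ 1 := fun e => hz1 (congrArg Subtype.val e)
      refine congrArg Subtype.val (?_ : (⟨_, hxy⟩ : Subgroup.center Co2Centralizer.phi.ker) = ⟨z, hzc⟩)
      grind
  rcases hz with h | h
  · exact Or.inl (mul_inv_eq_one.1 h)
  · exact Or.inr (mul_inv_eq_iff_eq_mul.1 h)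

theorem centralizer_Qz_le : Subgroup.centralizer (psi.ker : Set cz1) ≤ psi.ker := by
  haveI := isSimpleGroup_omega
  let f : cz1 →* ↥(Omega (ZMod 2) (quadFormPlus 4 (ZMod 2))) :=
    psi.codRestrict _ fun c => psi_range ▸ ⟨c, rfl⟩
  have hf : Function.Surjective f := by
    rintro ⟨x, hx⟩
    obtain ⟨c, hc⟩ := psi_range ▸ hx
    exact ⟨c, Subtype.ext hc⟩
  have hfk : f.ker = psi.ker := MonoidHom.ker_codRestrict psi _ _
  rcases ((inferInstance : (Subgroup.centralizer (psi.ker : Set cz1)).Normal).map f hf).eq_bot_or_eq_top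
    with h | h
  · rwa [Subgroup.map_eq_bot_iff, hfk] at h
  exfalso
  set e : cent := Co2Centralizer.genEl 3
  obtain ⟨k, hk, hk'⟩ : f (proj (ofCent e)) ∈ (Subgroup.centralizer (psi.ker : Set cz1)).map f :=
    h ▸ Subgroup.mem_top _
  have hq : k⁻¹ * proj (ofCent e) ∈ psi.ker := by
    rw [← hfk, MonoidHom.mem_ker, map_mul, map_inv, hk', inv_mul_cancel]
  obtain ⟨q, hqk, hq'⟩ := exists_of_mem_ker_psi hq
  have hsep : sepEl ∈ Co2Centralizer.phi.ker := Co2Centralizer.kerEl_mem_ker _ _
  have hc := Subgroup.mem_centralizer_iff.1 hk (proj (ofCent (q * sepEl * q⁻¹)))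
    (kerEquiv ⟨_, mul_mem (mul_mem hqk hsep) (inv_mem hqk)⟩).2
  have hk2 : k = proj (ofCent e) * (proj (ofCent q))⁻¹ := by rw [hq']; group
  have e1 : e * sepEl * e⁻¹ = q * sepEl * q⁻¹ := proj_ofCent_injective (by
    simp only [MonoidHom.comp_apply, map_mul, map_inv] at hc ⊢
    rw [hk2] at hc
    generalize proj (ofCent e) = E at hc ⊢
    generalize proj (ofCent q) = q' at hc ⊢
    generalize proj (ofCent sepEl) = s at hc ⊢
    calc E * s * E⁻¹ = (E * q'⁻¹ * (q' * s * q'⁻¹)) * (q' * E⁻¹) := by group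
      _ = (q' * s * q'⁻¹ * (E * q'⁻¹)) * (q' * E⁻¹) := by rw [hc]
      _ = _ := by group)
  rcases commutator_cases hqk hsep with h2 | h2
  · refine sep_ne.1 ?_
    rw [h2, mul_inv_cancel_right] at e1
    exact mul_inv_eq_iff_eq_mul.1 e1
  · refine sep_ne.2 ?_
    rw [h2, ← mul_assoc, mul_inv_cancel_right] at e1
    rw [← mul_assoc]
    exact mul_inv_eq_iff_eq_mul.1 e1

theorem pCore_eq_Qz : pCore 2 ↥cz1 = psi.ker := by
  haveI : Fact (Nat.Prime 2) := ⟨Nat.prime_two⟩
  haveI := isSimpleGroup_omega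
  refine le_antisymm ?_ (Cores.le_pCore inferInstance (IsPGroup.of_card natCard_Qz))
  let f : cz1 →* ↥(Omega (ZMod 2) (quadFormPlus 4 (ZMod 2))) :=
    psi.codRestrict _ fun c => psi_range ▸ ⟨c, rfl⟩
  have hf : Function.Surjective f := by
    rintro ⟨x, hx⟩
    obtain ⟨c, hc⟩ := psi_range ▸ hx
    exact ⟨c, Subtype.ext hc⟩
  have hfk : f.ker = psi.ker := MonoidHom.ker_codRestrict psi _ _
  rcases ((Cores.pCore_normal 2 ↥cz1).map f hf).eq_bot_or_eq_top with h | h
  · rwa [Subgroup.map_eq_bot_iff, hfk] at h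
  exfalso
  have hp := (Cores.isPGroup_pCore 2 ↥cz1).map f
  rw [h] at hp
  have hp' : IsPGroup 2 ↥(Omega (ZMod 2) (quadFormPlus 4 (ZMod 2))) :=
    hp.of_equiv Subgroup.topEquiv
  haveI := hp'.center_nontrivial
  have hnd := Orth.quadPlus_nondeg (F := ZMod 2) 4
  have hG : Orth.Good QF := Orth.Good.of_card hnd (Or.inr (by simp))
  have hbot : Subgroup.center ↥(Omega (ZMod 2) ⇑QF) = ⊥ :=
    Orth.center_omega_eq_bot hnd (by simp)
      (Orth.omega_eq_eichGen hG (by simp) (Or.inr (by simp))).ge (Or.inr rfl)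
  exact (Subgroup.nontrivial_iff_ne_bot _).1
    (inferInstance : Nontrivial ↥(Subgroup.center ↥(Omega (ZMod 2) (quadFormPlus 4 (ZMod 2))))) hbot

theorem genFitting_eq : generalizedFittingSubgroup ↥cz1 = psi.ker := by
  haveI : Fact (Nat.Prime 2) := ⟨Nat.prime_two⟩
  rw [LocalCharP.generalizedFittingSubgroup_eq_pCore (p := 2)
    (by rw [pCore_eq_Qz]; exact centralizer_Qz_le), pCore_eq_Qz]

/-! ### A second conjugate in the kernel -/

/-- An octad avoiding the octad. -/
def octMask : ℕ := 0x6920d0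

theorem octMask_ok : Golay.isCode octMask = true ∧ octMask &&& Golay.octad0 = 0 ∧
    (Golay.pts octMask).card = 8 := by decide +kernel

theorem exists_fused : ∃ g : Spor.Co1, (∃ hq : g * z1 * g⁻¹ ∈ cz1, (⟨g * z1 * g⁻¹, hq⟩ : cz1) ∈ psi.ker) ∧
    g * z1 * g⁻¹ ≠ z1 := by
  set c := Golay.pts octMask with hc
  have hcs : c ∈ supports (golayCode : Set (GolayPt → ZMod 2)) :=
    (Golay.pts_mem_supports_iff (Golay.lt_of_isCode octMask_ok.1)).2 octMask_ok.1
  have hca : c ∈ Co2Centralizer.avoid := ⟨hcs, by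
    rw [Finset.disjoint_iff_inter_eq_empty, hc, oct, ← Golay.pts_and, octMask_ok.2.1, Golay.pts_zero]⟩
  obtain ⟨σ, hσ, hσc⟩ := Golay.exists_map_octad Co2Centralizer.oct_mem
    (⟨hcs, octMask_ok.2.2⟩ : c ∈ octads)
  set g : Co0 := mono σ hσ ∅ Golay.empty_mem
  let k : cz1 := proj (ofCent (Co2Centralizer.kerEl ⟨1, one_mem _⟩ ⟨c, hca⟩))
  have hk : k ∈ psi.ker := (kerEquiv ⟨_, Co2Centralizer.kerEl_mem_ker _ _⟩).2
  set s : Co0 := Co2Centralizer.kerMono ⟨1, one_mem _⟩ ⟨c, hca⟩ with hs
  have hs' : ∀ v : leechLattice, ∀ i, ((s • v : leechLattice) : GolayPt → ℤ) i =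
      if i ∈ c then -(v : GolayPt → ℤ) i else (v : GolayPt → ℤ) i := fun v i => by
    rw [hs, Co2Centralizer.kerMono, vec_mono]
    rfl
  have hmem : ∀ x, x ∈ c ↔ σ.symm x ∈ oct := fun x => by
    rw [← hσc, ← Finset.inv_smul_mem_iff, Equiv.Perm.smul_def, Equiv.Perm.coe_inv]
  have hg : g * inv0 = negOne * (s * g) := co0_ext fun v => Subtype.ext (funext fun i => by
    rw [mul_smul, mul_smul, negOne_smul, mul_smul]
    show _ = -((s • g • v : leechLattice) : GolayPt → ℤ) i
    rw [hs', vec_mono, vec_mono]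
    simp only [signedPerm, Finset.notMem_empty, if_false, inv0_smul, hmem]
    split_ifs <;> simp)
  have hconj : QuotientGroup.mk g * z1 * (QuotientGroup.mk g)⁻¹ = (k : Spor.Co1) := by
    rw [z1, mul_inv_eq_iff_eq_mul, ← QuotientGroup.mk_mul, hg, QuotientGroup.mk_mul,
      mk_eq_one_iff.2 (Or.inr rfl), one_mul, QuotientGroup.mk_mul]
    rfl
  refine ⟨QuotientGroup.mk g, ⟨hconj ▸ k.2, ?_⟩, ?_⟩
  · rwa [show (⟨_, hconj ▸ k.2⟩ : cz1) = k from Subtype.ext hconj]
  · rw [hconj]
    intro h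
    have h' : (QuotientGroup.mk (s * inv0) : Spor.Co1) = 1 := by
      rw [QuotientGroup.mk_mul, show (QuotientGroup.mk s : Spor.Co1) = QuotientGroup.mk inv0 from h,
        ← QuotientGroup.mk_mul, inv0_mul_self, QuotientGroup.mk_one]
    obtain ⟨a, ha, b, hb⟩ : ∃ a, (a ∉ c ∧ a ∈ oct) ∧ ∃ b, b ∉ c ∧ b ∉ oct := by decide +kernel
    have hv : ∀ j, ((s * inv0) • eightVec j : leechLattice).1 j =
        if j ∈ c then -(if j ∈ oct then 8 else -8) else (if j ∈ oct then 8 else -8) := fun j => by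
      rw [mul_smul, hs', inv0_eight]
    rcases mk_eq_one_iff.1 h' with e | e
    · have h2 := hv b
      rw [e, one_smul, coe_eightVec, Pi.single_eq_same, if_neg hb.1, if_neg hb.2] at h2
      norm_num at h2
    · have h2 := hv a
      rw [e, negOne_smul, if_neg ha.1, if_pos ha.2] at h2
      rw [show ((-eightVec a : leechLattice) : GolayPt → ℤ) a = -((eightVec a : GolayPt → ℤ) a) from rfl,
        coe_eightVec, Pi.single_eq_same] at h2
      norm_num at h2

end Cfsg.Agent.Co1Centralizer
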